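import Cfsg.Agent.H623.XZ.Fld
import Cfsg.Agent.Schreier.PSU

/-!
# S4933: field automorphisms of `GL_n(F)` and `GU_n(q)` on labelled characters

* `gl_fld`, `gu_fld`.
-/

set_option autoImplicit false

open Cfsg
open scoped ComplexConjugate TensorProduct MatrixGroups

namespace Cfsg.Agent.H623.XZ

open Cfsg.Agent.H577.GLB.Std Cfsg.Agent.H614.GLn Cfsg.Agent.H615.GU Cfsg.Agent.H623.GU

universe u

variable {F : Type u} [Field F] [Fintype F] {K : Type u} [Field K] [Algebra F K] {θ : K →*₀ ℂ} {M N p₀ q : ℕ} [NeZero M]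

/-- **(F)** for `GL_n(F)` -/
theorem gl_fld (ctx : CtxQ θ (Fintype.card F : ℤ) M N) (t : Tow θ (Fintype.card F : ℤ) M N p₀ (fun n => GL (Fin n) F))
    (ht : ∀ n (hn : n ≤ N) (A : GL (Fin n) F) (x : Kˣ), (t.T n hn).typ A (Quotient.mk (orbSetoid K (Fintype.card F : ℤ)) x) =
      mcol A.1 (x : K)) {n : ℕ} (hn : n ≤ N) {p k : ℕ} (hp : p.Prime) {m : ℕ} {χ : IrrCharacter (GL (Fin n) F)}
    {lab : LabZ (Fintype.card F : ℤ) M m n} (hlab : (t.R n hn).IsLb χ lab)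
    (hord : ∀ c : ZMod M, p • c ≠ 0 → H577.GLB.Std.bsz (lab.t c) = 0) (ρ : F ≃+* F) (hk : ρ ^ (p ^ k) = 1)
    (g : GL (Fin n) F) :
    (χ : GL (Fin n) F → ℂ) (Matrix.GeneralLinearGroup.map (ρ : F →+* F) g) = (χ : GL (Fin n) F → ℂ) g := by
  have := ctx.finK
  exact tow_fld (F := F) ctx.card ctx.unit t hn (fun A => A.1) (fun A x => ht n hn A x) hp (b := 1)
    (by rw [pow_one, Nat.card_eq_fintype_card]) ρ hk hlab hord rfl

/-- **(F)** for `GU_n(q)` -/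
theorem gu_fld (hF : Fintype.card F = q ^ 2) (ctx : CtxQ θ (-(q : ℤ)) M N)
    (t : Tow θ (-(q : ℤ)) M N p₀ (fun n => GU n F q)) (ht : ∀ n (hn : n ≤ N), IsTypU q n (t.T n hn)) {n : ℕ} (hn : n ≤ N)
    {p k : ℕ} (hp : p.Prime) {m : ℕ} {χ : IrrCharacter (GU n F q)} {lab : LabZ (-(q : ℤ)) M m n}
    (hlab : (t.R n hn).IsLb χ lab) (hord : ∀ c : ZMod M, p • c ≠ 0 → H577.GLB.Std.bsz (lab.t c) = 0) (ρ : F ≃+* F)
    (hk : ρ ^ (p ^ k) = 1) (g : GU n F q) :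
    (χ : GU n F q → ℂ) (Schreier.PSU.mapGU ρ g) = (χ : GU n F q → ℂ) g := by
  have := ctx.finK
  exact tow_fld (F := F) ctx.card ctx.unit t hn (fun A : GU n F q => ((A : GL (Fin n) F) : Matrix (Fin n) (Fin n) F))
    (fun A x => ht n hn A x) hp (b := 2)
    (by rw [Nat.card_eq_fintype_card, hF, neg_sq, Nat.cast_pow]) ρ hk hlab hord rfl

end Cfsg.Agent.H623.XZ
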