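import Cfsg.Agent.H623.GU.GeoAll

/-!
# S4791, S4927: the geometric hypothesis for the tower `GL_n(F)`

* `lin_data` : the extension fields;
* `step_lin` : the reduction step for `GL_n(F)`;
* `geo_gl` : the hypothesis `Geo` for `GL_n(F)`.
-/

set_option autoImplicit false

open Cfsg
open scoped ComplexConjugate TensorProduct MatrixGroups

namespace Cfsg.Agent.H623.XZ

open Cfsg.Agent.H577.GLB.Std Cfsg.Agent.H614 Cfsg.Agent.H614.GLn Cfsg.Agent.H615.GU
open Cfsg.Agent.H577.GLB.Real (coP PhiF PGen frm)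
open Cfsg.Agent.H112.GLB Cfsg.Agent.H608.BlockRank Cfsg.Agent.H624.Sl Cfsg.Agent.H166.GUC
open Cfsg.Agent.H623.GU
open Cfsg.Agent.Blocks.Local Cfsg.Agent.Blocks.Basic

universe u v

section L

variable {F : Type u} [Field F] [Fintype F] {K : Type u} [Field K] [Algebra F K] {θ : K →*₀ ℂ} {M N p : ℕ} [NeZero M]

/-- field data of the linear case -/
structure FLin (F K : Type u) [Field F] [Fintype F] [Field K] [Algebra F K] (p f : ℕ) (E : Type u) [Field E] [Algebra F E]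
    [Algebra E K] (z : Eˣ) : Prop where
  tower : IsScalarTower F E K
  finrank : Module.finrank F E = f
  ppow : ∃ a : ℕ, orderOf z = p ^ a
  ne : z ≠ 1
  adj : Algebra.adjoin F {(z : E)} = ⊤
  min : ∀ j : ℕ, (Units.map (algebraMap E K).toMonoidHom z) ^ ((((Fintype.card F : ℕ) : ℤ)) ^ j) =
    Units.map (algebraMap E K).toMonoidHom z ↔ f ∣ j

/-- **the extension fields** -/
theorem lin_data (hctx : Ctx F θ N M) (hp : p.Prime) (hu : IsUnit (((Fintype.card F : ℕ) : ℤ) : ZMod p)) (s : ℕ) {f : ℕ}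
    (hf : f = orderOf (((Fintype.card F : ℕ) : ℤ) : ZMod p) * p ^ s) (hN : f ≤ N) :
    ∃ (E : Type u) (_ : Field E) (_ : Finite E) (_ : Algebra F E) (_ : Algebra E K) (z : Eˣ),
      FLin F K p f E z ∧ Nat.card E = Fintype.card F ^ f ∧ ∀ k, f * k ≤ N → Ctx E θ k M := by
  have := hctx.finK
  have hQ : CtxQ θ ((Fintype.card F : ℕ) : ℤ) M N := by
    rw [← Nat.card_eq_fintype_card]
    exact H614.GU.ctxQ_card hctx
  have hf0 : 0 < f := by
    rw [hf]; exact Nat.mul_pos (H614.GU.orderOfZ_pos hp hu) (Nat.pow_pos hp.pos)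
  obtain ⟨z₀, ⟨a, ha⟩, hz1, hper⟩ := H614.GU.exists_z hQ hp hu s (by rw [← hf]; exact hN)
  rw [← hf] at hper
  obtain ⟨E, hE, hEf⟩ := H614.GU.exists_field_pos hctx hf0 hN
  have hcE : Nat.card E = Fintype.card F ^ f := by
    rw [Module.natCard_eq_pow_finrank (K := F) (V := E), hE, Nat.card_eq_fintype_card]
  have hpowZ : ∀ i : ℕ, z₀ ^ (((Fintype.card F : ℕ) : ℤ) ^ i) = z₀ ^ (Fintype.card F ^ i) := by
    intro i
    rw [← Nat.cast_pow, zpow_natCast]
  have hmem : (z₀ : K) ∈ E := by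
    apply H614.GU.mem_of_pow
    rw [hcE]
    have h1 := (hper f).2 dvd_rfl
    rw [hpowZ] at h1
    have h2 : 1 ≤ Fintype.card F ^ f := Nat.one_le_pow _ _ Fintype.card_pos
    have h3 : z₀ ^ (Fintype.card F ^ f - 1) * z₀ = z₀ := by
      rw [← pow_succ, Nat.sub_add_cancel h2]; exact h1
    exact mul_eq_right.1 h3
  obtain ⟨z, hz, hz'⟩ := H614.GU.exists_unit E hmem
  have hinj : Function.Injective (Units.map (algebraMap E K : E →* K)) :=
    Units.map_injective (algebraMap E K).injective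
  refine ⟨E, inferInstance, hEf, inferInstance, inferInstance, z, ⟨inferInstance, hE, ⟨a, ?_⟩, ?_, ?_, ?_⟩, hcE,
    fun k hk => H505.S4536.Ext.ctx_ext hctx E (by rwa [hE])⟩
  · rw [← orderOf_injective _ hinj, hz', ha]
  · rintro rfl
    rw [map_one] at hz'
    exact hz1 hz'.symm
  · apply H614.GU.adjoin_eq_top
    intro i hi0 hi h
    rw [hE] at hi ⊢
    have h1 : z₀ ^ (((Fintype.card F : ℕ) : ℤ) ^ i) = z₀ := by
      have h2 : (z : E) ^ (Nat.card F ^ i) = z := h
      have h3 : z ^ (Nat.card F ^ i) = z := Units.ext (by push_cast; exact h2)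
      have h4 := congrArg (Units.map (algebraMap E K : E →* K)) h3
      rw [map_pow, hz', Nat.card_eq_fintype_card] at h4
      rw [hpowZ]
      exact h4
    exact Nat.dvd_antisymm hi ((hper _).1 h1)
  · intro i
    have h1 : Units.map (algebraMap E K).toMonoidHom z = z₀ := hz'
    rw [h1]
    exact hper i

/-- **The reduction step.** -/
theorem step_lin (hp : p.Prime) {f : ℕ} (hf : 0 < f) (h67 : R67 θ (Fintype.card F : ℤ) M p f)
    (t : Tow θ (Fintype.card F : ℤ) M N p (fun n => GL (Fin n) F))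
    (ht : ∀ n (hn : n ≤ N) (A : GL (Fin n) F) (x : Kˣ), (t.T n hn).typ A (Quotient.mk (orbSetoid K (Fintype.card F : ℤ)) x) =
      mcol A.1 (x : K)) {E : Type u} [Field E] [Finite E] [Algebra F E] [Algebra E K] {z : Eˣ}
    (hE : FLin F K p f E z) {N₁ : ℕ} (t₁ : Tow θ ((Fintype.card F : ℤ) ^ f) M N₁ p (fun n => GL (Fin n) E))
    (ht₁ : ∀ n (hn : n ≤ N₁) (A : GL (Fin n) E) (x : Kˣ), (t₁.T n hn).typ A (Quotient.mk (orbSetoid K _) x) =
      mcol A.1 (x : K)) {n k l : ℕ} (hk : k ≤ N₁) (hl : l ≤ N)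
    (hn : n ≤ N) (hnl : l + f * k = n) :
    ∃ (e : ((Fin k → E) × (Fin l → F)) ≃ₗ[F] (Fin n → F)),
      Function.Injective (jj e) ∧
      (jj e).range = Subgroup.centralizer ({jj e (scl k z, 1)} : Set (GL (Fin n) F)) ∧
      (∀ (A : GL (Fin k) E) (B : GL (Fin l) F) (x : Kˣ) (i : ℕ),
        (t.T n hn).typ (jj e (A, B)) (Quotient.mk (orbSetoid K (Fintype.card F : ℤ)) x) i =
        ∑ i' ∈ Finset.range f, (t₁.T k hk).typ A (Quotient.mk (orbSetoid K ((Fintype.card F : ℤ) ^ f))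
            (x ^ ((Fintype.card F : ℤ) ^ i'))) i +
        (t.T l hl).typ B (Quotient.mk (orbSetoid K (Fintype.card F : ℤ)) x) i) ∧
      Val (t.R n hn) (t₁.R k hk) (t.R l hl) (jj e) (jj e (scl k z, 1)) := by
  have := hE.tower
  have : Module.Finite F E := Module.Finite.of_finite
  have hfr : Module.finrank F ((Fin k → E) × (Fin l → F)) = Module.finrank F (Fin n → F) := by
    rw [Module.finrank_prod, Module.finrank_pi_fintype, Finset.sum_const, Finset.card_univ, Fintype.card_fin,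
      smul_eq_mul, hE.finrank, Module.finrank_fin_fun, Module.finrank_fin_fun, mul_comm k f]
    omega
  obtain ⟨e⟩ : Nonempty (((Fin k → E) × (Fin l → F)) ≃ₗ[F] (Fin n → F)) := ⟨LinearEquiv.ofFinrankEq _ _ hfr⟩
  have htyp : ∀ (A : GL (Fin k) E) (B : GL (Fin l) F) (x : Kˣ) (i : ℕ),
        (t.T n hn).typ (jj e (A, B)) (Quotient.mk (orbSetoid K (Fintype.card F : ℤ)) x) i =
        ∑ i' ∈ Finset.range f, (t₁.T k hk).typ A (Quotient.mk (orbSetoid K ((Fintype.card F : ℤ) ^ f))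
            (x ^ ((Fintype.card F : ℤ) ^ i'))) i +
        (t.T l hl).typ B (Quotient.mk (orbSetoid K (Fintype.card F : ℤ)) x) i := by
    intro A B x i
    rw [ht n hn, ht l hl, mcol_jj e A B (x : K) i, hE.finrank]
    congr 1
    refine Finset.sum_congr rfl fun i' _ => ?_
    rw [ht₁ k hk, ← Nat.cast_pow, zpow_natCast, Units.val_pow_eq_pow_val, Nat.card_eq_fintype_card]
  obtain ⟨a, ha⟩ := hE.ppow
  exact ⟨e, Cfsg.Agent.H901.Sl.jj_injective e, Cfsg.Agent.H901.Sl.centralizer_jj e z hE.ne hE.adj, htyp,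
    t.val hp hf h67 t₁ hn hl hk (jj e) (scl k z)
    (z := Units.map (algebraMap E K).toMonoidHom z) (a₀ := a)
    (by rw [← map_pow, ← ha, pow_orderOf_eq_one, map_one])
    (fun h => hE.ne ((Units.map_injective (f := (algebraMap E K).toMonoidHom) (algebraMap E K).injective) (by rw [h, map_one])))
    hE.min htyp
    (fun A y => by
      rw [ht₁ k hk, ht₁ k hk]
      exact mcol_scl z _ y)⟩

theorem isUnit_card (hp : p.Prime) (hpF : (p : F) ≠ 0) : IsUnit (((Fintype.card F : ℕ) : ℤ) : ZMod p) := by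
  have : Fact p.Prime := ⟨hp⟩
  rw [isUnit_iff_ne_zero]
  intro h
  rw [Int.cast_natCast, ZMod.natCast_eq_zero_iff] at h
  obtain ⟨r, hr⟩ := CharP.exists F
  obtain ⟨n, hr', hn⟩ := FiniteField.card F r
  have h2 : p = r := (Nat.prime_dvd_prime_iff_eq hp hr').1 (hp.dvd_of_dvd_pow (hn ▸ h))
  exact hpF (by rw [h2]; exact CharP.cast_eq_zero F r)

/-- **The geometric hypothesis for `GL_n(F)`.** -/
theorem geo_gl (hp : p.Prime) (C : Ctx F θ N M) (hpF : (p : F) ≠ 0)
    (t : Tow θ (Fintype.card F : ℤ) M N p (fun n => GL (Fin n) F))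
    (ht : ∀ n (hn : n ≤ N) (A : GL (Fin n) F) (x : Kˣ), (t.T n hn).typ A (Quotient.mk (orbSetoid K (Fintype.card F : ℤ)) x) =
      mcol A.1 (x : K)) : Geo t.R := by
  have := C.finK
  have ctx : CtxQ θ ((Fintype.card F : ℕ) : ℤ) M N := by
    rw [← Nat.card_eq_fintype_card]
    exact H614.GU.ctxQ_card C
  have hu := isUnit_card (F := F) hp hpF
  intro s f k l n hl hn hf hf0 hk0 hpk hln
  have hfk : f * k ≤ N := by omega
  have hfN : f ≤ N := (Nat.le_mul_of_pos_right f hk0).trans hfk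
  obtain ⟨E, _, _, _, _, z, hE, hcE, hCE⟩ := lin_data C hp hu s hf hfN
  have := Fintype.ofFinite E
  have hQ : ((Fintype.card E : ℕ) : ℤ) = (Fintype.card F : ℤ) ^ f := by
    rw [← Nat.card_eq_fintype_card, hcE, Nat.cast_pow]
  have hpE : (p : E) ≠ 0 := by
    have := hE.tower
    intro h
    apply hpF
    apply (algebraMap F E).injective
    rw [map_natCast, map_zero]
    exact h
  have hctxE : CtxQ θ ((Fintype.card E : ℕ) : ℤ) M k := by
    rw [← Nat.card_eq_fintype_card]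
    exact H614.GU.ctxQ_card (hCE k hfk)
  obtain ⟨t₁, ht₁⟩ := cast_tow (Q₂ := (Fintype.card F : ℤ) ^ f) hQ
    (φ := fun n (A : GL (Fin n) E) (x : Kˣ) => mcol (A : Matrix (Fin n) (Fin n) E) (x : K))
    (H941.GU.towG (F := E) (N := k) hctxE (hCE k hfk) hp hpE)
  obtain ⟨e, hj, hr, htyp, hval⟩ := step_lin hp hf0 (r67 ctx hp hf0) t ht hE t₁ ht₁ (k := k) le_rfl hl hn hln
  obtain ⟨c, hc, hcc⟩ := Cfsg.Agent.H623.GLn.exists_scl hp hE.ppow hE.ne hk0
  refine ⟨GL (Fin k) E, inferInstance, inferInstance, t₁.R k le_rfl, jj e, jj e (scl k z, 1), c, t₁.gr k le_rfl,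
    t₁.bij k k le_rfl le_rfl, hj, ?_, hr, hval, hc, hcc⟩
  obtain ⟨b, hb⟩ := hE.ppow
  refine ⟨b, ?_⟩
  rw [orderOf_injective (jj e) hj, Prod.orderOf_mk, orderOf_one, Nat.lcm_one_right, orderOf_scl hk0, hb]

end L

end Cfsg.Agent.H623.XZ
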