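import Cfsg.Agent.H623.XZ.GeoG
import Cfsg.Agent.H421.GU.Twist
import Cfsg.Agent.H614.GLn.Cusp

/-!
# S4933: field automorphisms in the label theory of `GL_n`, `GU_n`

* `rel Q M r` : the algebra homomorphism `X (k, c) ↦ X (k, r c)`;
* `evR_rel` : `evR (rel x) lam = evR x (lam ∘ σ⁻¹)`, `σ` the map `o ↦ o ^ r` on the orbits;
* `mcol_frob` : the columns of the image of a matrix under a field automorphism;
* `omT_fld` : the values of `om x` at the image of an element under a field automorphism;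
* `rel_fix` : fixed labels; `irr_fld` : characters fixed by a field automorphism.
-/

set_option autoImplicit false

open Cfsg
open scoped ComplexConjugate TensorProduct MatrixGroups

namespace Cfsg.Agent.H623.XZ

open MvPolynomial
open Cfsg.Agent.H577.GLB.Std Cfsg.Agent.H614.GLn Cfsg.Agent.H615.GU
open Cfsg.Agent.H112.GLB Cfsg.Agent.H608.BlockRank Cfsg.Agent.H624.Sl Cfsg.Agent.H166.GUC
open Cfsg.Agent.H623.GU Cfsg.Agent.H421.GU

universe u v

section orb

variable {K : Type u} [Field K] {θ : K →*₀ ℂ} {Q : ℤ} {M : ℕ} {r : ℕ}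

theorem pow_zpow_comm (x : Kˣ) (z : ℤ) : (x ^ r) ^ z = (x ^ z) ^ r := by
  rw [← zpow_natCast, ← zpow_natCast, ← zpow_mul, ← zpow_mul, mul_comm]

/-- the map `o ↦ o ^ r` on the orbits -/
def sgf (K : Type u) [Field K] (Q : ℤ) (r : ℕ) : Orb K Q → Orb K Q :=
  Quotient.map (fun x : Kˣ => x ^ r) fun x y ⟨i, j, h⟩ => ⟨i, j, by
    show (x ^ r) ^ (Q ^ i) = (y ^ r) ^ (Q ^ j)
    rw [pow_zpow_comm, pow_zpow_comm, h]⟩

theorem sgf_mk (x : Kˣ) : sgf K Q r (Quotient.mk (orbSetoid K Q) x) = Quotient.mk (orbSetoid K Q) (x ^ r) := rfl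

variable [Finite K] (hM : Nat.card Kˣ = M) (hQ : IsUnit (Q : ZMod M)) (hr : r.Coprime M)

include hM hr in
theorem pow_inj : Function.Injective fun x : Kˣ => x ^ r := by
  have h : (Nat.card Kˣ).Coprime r := by rw [hM]; exact hr.symm
  exact (powCoprime h).injective

include hM hr in
theorem pow_surj : Function.Surjective fun x : Kˣ => x ^ r := by
  have h : (Nat.card Kˣ).Coprime r := by rw [hM]; exact hr.symm
  exact (powCoprime h).surjective

include hM hQ hr in
theorem sgf_bij : Function.Bijective (sgf K Q r) := by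
  constructor
  · intro o o' h
    induction o using Quotient.inductionOn with
    | _ x =>
    induction o' using Quotient.inductionOn with
    | _ y =>
      rw [sgf_mk, sgf_mk] at h
      obtain ⟨i, hi⟩ := (mk_eq_iff hM hQ).1 h
      rw [pow_zpow_comm] at hi
      exact (mk_eq_iff hM hQ).2 ⟨i, pow_inj hM hr hi⟩
  · intro o
    induction o using Quotient.inductionOn with
    | _ x =>
      obtain ⟨y, hy⟩ := pow_surj hM hr x
      exact ⟨Quotient.mk _ y, by rw [sgf_mk]; exact congrArg _ hy⟩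

/-- the permutation `o ↦ o ^ r` of the orbits -/
noncomputable def sg : Orb K Q ≃ Orb K Q := Equiv.ofBijective _ (sgf_bij hM hQ hr)

theorem sg_mk (x : Kˣ) : sg hM hQ hr (Quotient.mk (orbSetoid K Q) x) = Quotient.mk (orbSetoid K Q) (x ^ r) := rfl

theorem dOrb_sg (o : Orb K Q) : dOrb K Q (sg hM hQ hr o) = dOrb K Q o := by
  induction o using Quotient.inductionOn with
  | _ x =>
    have h : ∀ k, dOrb K Q (Quotient.mk (orbSetoid K Q) (x ^ r)) ∣ k ↔ dOrb K Q (Quotient.mk (orbSetoid K Q) x) ∣ k := by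
      intro k
      rw [dOrb_dvd_iff hM hQ, dOrb_dvd_iff hM hQ, pow_zpow_comm]
      exact ⟨fun h => pow_inj hM hr h, fun h => by rw [h]⟩
    exact Nat.dvd_antisymm ((h _).2 dvd_rfl) ((h _).1 dvd_rfl)

omit [Finite K] in
theorem torZ_nat {k : ℕ} {c : ZMod M} (h : TorZ Q M k c) : TorZ Q M k ((r : ZMod M) * c) := by
  rw [TorZ] at h ⊢
  rw [mul_left_comm, h, mul_zero]

variable [NeZero M]

omit [Finite K] in
theorem pow_expoZ_nat {k : ℕ} {x : Kˣ} (hx : x ^ (Q ^ k) = x) {c : ZMod M} (h : TorZ Q M k c) :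
    x ^ expoZ Q M k ((r : ZMod M) * c) = (x ^ r) ^ expoZ Q M k c := by
  have hM0 : (M : ℤ) ≠ 0 := by exact_mod_cast NeZero.ne M
  rw [← zpow_natCast x r, ← zpow_mul]
  refine pow_of_level hx ?_
  have h1 := expoZ_mul h
  have h2 := expoZ_mul (torZ_nat (r := r) h)
  have h4 : (M : ℤ) ∣ (((r : ZMod M) * c).val : ℤ) - r * c.val := by
    rw [← ZMod.intCast_zmod_eq_zero_iff_dvd]
    push_cast
    rw [ZMod.natCast_zmod_val, ZMod.natCast_zmod_val]
    ring
  obtain ⟨t, ht⟩ := h4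
  refine ⟨t, mul_right_cancel₀ hM0 ?_⟩
  linear_combination h2 - r * h1 + (Q ^ k - 1) * ht

theorem thO_nat {k : ℕ} {c : ZMod M} (hc : TorZ Q M k c) {o : Orb K Q} (ho : dOrb K Q o ∣ k) :
    thO θ Q M k ((r : ZMod M) * c) o = thO θ Q M k c (sg hM hQ hr o) := by
  have hd := dOrb_sg hM hQ hr o
  induction o using Quotient.inductionOn with
  | _ x =>
    rw [sg_mk] at hd ⊢
    rw [thO_mk hM hQ, thO_mk hM hQ, hd]
    refine Finset.sum_congr rfl fun i _ => ?_
    have hxi : (x ^ (Q ^ i)) ^ (Q ^ k) = x ^ (Q ^ i) := by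
      rw [← zpow_mul, mul_comm, zpow_mul, (dOrb_dvd_iff hM hQ x k).1 ho]
    rw [pow_expoZ_nat (r := r) hxi hc, pow_zpow_comm x (Q ^ i)]

/-- relabelling the types -/
noncomputable def Sg : Module.End ℂ (Ty (Orb K Q) → ℂ) where
  toFun f lam := f (Finsupp.equivMapDomain (sg hM hQ hr) lam)
  map_add' _ _ := rfl
  map_smul' _ _ := rfl

omit [NeZero M] in
theorem Sg_apply (f : Ty (Orb K Q) → ℂ) (lam : Ty (Orb K Q)) :
    Sg hM hQ hr f lam = f (Finsupp.equivMapDomain (sg hM hQ hr) lam) := rfl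

omit [NeZero M] in
theorem lft_Sg (A : Module.End ℂ (Col → ℂ)) (o : Orb K Q) (f : Ty (Orb K Q) → ℂ) :
    lft o A (Sg hM hQ hr f) = Sg hM hQ hr (lft (sg hM hQ hr o) A f) := by
  classical
  funext lam
  rw [H531.GU.lft_apply, Sg_apply, H531.GU.lft_apply, Finsupp.equivMapDomain_apply, Equiv.symm_apply_apply]
  refine congrFun (congrArg A (funext fun c => ?_)) _
  rw [Sg_apply]
  congr 1
  ext1 o'
  rw [Finsupp.equivMapDomain_apply, Finsupp.coe_update, Finsupp.coe_update, Function.update_apply, Function.update_apply,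
    Finsupp.equivMapDomain_apply]
  by_cases h : o' = sg hM hQ hr o
  · rw [if_pos h, if_pos (by rw [h, Equiv.symm_apply_apply])]
  · rw [if_neg h, if_neg (fun h' => h (by rw [← h', Equiv.apply_symm_apply]))]

omit [NeZero M] in
theorem Sg_vac : Sg hM hQ hr (H615.GU.vac : Ty (Orb K Q) → ℂ) = H615.GU.vac := by
  classical
  funext lam
  rw [Sg_apply]
  unfold H615.GU.vac
  have h : Finsupp.equivMapDomain (sg hM hQ hr) lam = 0 ↔ lam = 0 := by
    constructor
    · intro h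
      ext1 o
      have h1 := DFunLike.congr_fun h (sg hM hQ hr o)
      rw [Finsupp.equivMapDomain_apply, Equiv.symm_apply_apply] at h1
      rw [h1]
      rfl
    · rintro rfl
      ext1 o
      rw [Finsupp.equivMapDomain_apply]
      rfl
  by_cases h0 : lam = 0
  · rw [if_pos (h.2 h0), if_pos h0]
  · rw [if_neg (fun h' => h0 (h.1 h')), if_neg h0]

theorem Pop_Sg {c : ZMod M} {k : ℕ} (hc : TorZ Q M k c) (f : Ty (Orb K Q) → ℂ) :
    Pop θ Q M k ((r : ZMod M) * c) (Sg hM hQ hr f) = Sg hM hQ hr (Pop θ Q M k c f) := by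
  classical
  have : Fintype (Orb K Q) := Fintype.ofFinite _
  unfold Pop
  rw [finsum_eq_sum_of_fintype, finsum_eq_sum_of_fintype, LinearMap.sum_apply, LinearMap.sum_apply, map_sum]
  refine Eq.trans (Finset.sum_congr rfl fun o _ => ?_) (Equiv.sum_comp (sg hM hQ hr) (fun o => Sg hM hQ hr
    ((if 0 < k ∧ dOrb K Q o ∣ k then thO θ Q M k c o • lft o (Pl ((Q : ℂ) ^ dOrb K Q o) (k / dOrb K Q o)) else 0) f)))
  simp only [dOrb_sg]
  split_ifs with h
  · rw [LinearMap.smul_apply, LinearMap.smul_apply, lft_Sg, thO_nat hM hQ hr hc h.2, map_smul]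
  · rw [LinearMap.zero_apply, LinearMap.zero_apply, map_zero]

end orb

section rel

variable {Q : ℤ} {M : ℕ}

/-- the labels multiplied by `r` -/
noncomputable def rel (Q : ℤ) (M r : ℕ) : RS M →ₐ[ℂ] RS M := aeval fun v : Var M => rv Q M v.1 ((r : ZMod M) * v.2)

variable {r : ℕ}

open Classical in
theorem rel_rv [NeZero M] (hQ : IsUnit (Q : ZMod M)) (k : ℕ) (c : ZMod M) :
    rel Q M r (rv Q M k c) = if 0 < k ∧ TorZ Q M k c then rv Q M k ((r : ZMod M) * c) else 0 := by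
  classical
  by_cases h : 0 < k ∧ TorZ Q M k c
  · rw [if_pos h]
    have h1 : rv Q M k c = X (k, canon Q M c) := by rw [rv, if_pos h]
    rw [h1, rel, aeval_X]
    show rv Q M k ((r : ZMod M) * canon Q M c) = _
    obtain ⟨j, hj⟩ := RSt.sameZ_canon (Q := Q) c
    have hcan : TorZ Q M k (canon Q M c) := by
      rw [hj]
      exact RSt.torZ_mul k h.2 j
    rw [rv, rv, if_pos ⟨h.1, torZ_nat hcan⟩, if_pos ⟨h.1, torZ_nat h.2⟩]
    congr 2
    refine (RSt.canon_eq_of_same hQ ⟨j, ?_⟩).symm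
    rw [hj]
    ring
  · rw [if_neg h, rv, if_neg h, map_zero]

/-- fixed variables -/
theorem rel_rv_fix [NeZero M] (hQ : IsUnit (Q : ZMod M)) (k : ℕ) {c : ZMod M} (hc : SameZ Q M c ((r : ZMod M) * c)) :
    rel Q M r (rv Q M k c) = rv Q M k c := by
  classical
  rw [rel_rv hQ]
  by_cases h : 0 < k ∧ TorZ Q M k c
  · rw [if_pos h, rv, rv, if_pos h, if_pos ⟨h.1, torZ_nat h.2⟩, RSt.canon_eq_of_same hQ hc]
  · rw [if_neg h, rv, if_neg h]

/-- polynomials in fixed variables are fixed -/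
theorem rel_fix [NeZero M] (hQ : IsUnit (Q : ZMod M)) {x : RS M}
    (hx : x ∈ Algebra.adjoin ℂ {y : RS M | ∃ (k : ℕ) (c : ZMod M), SameZ Q M c ((r : ZMod M) * c) ∧ y = rv Q M k c}) :
    rel Q M r x = x := by
  induction hx using Algebra.adjoin_induction with
  | mem y hy =>
    obtain ⟨k, c, hc, rfl⟩ := hy
    exact rel_rv_fix hQ k hc
  | algebraMap z => exact (rel Q M r).commutes z
  | add y z _ _ hy hz => rw [map_add, hy, hz]
  | mul y z _ _ hy hz => rw [map_mul, hy, hz]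

/-- labels of order `p` are fixed if `r = Q ^ j` modulo `p` -/
theorem same_of_modEq {p j : ℕ} {c : ZMod M} (hc : p • c = 0) (h : (p : ℤ) ∣ r - Q ^ j) : SameZ Q M c ((r : ZMod M) * c) := by
  refine ⟨j, ?_⟩
  obtain ⟨t, ht⟩ := h
  have h1 : (r : ZMod M) = (Q : ZMod M) ^ j + (p : ZMod M) * (t : ZMod M) := by
    have h2 : (r : ℤ) = Q ^ j + p * t := by linarith
    have h3 := congrArg (fun z : ℤ => (z : ZMod M)) h2
    push_cast at h3
    exact h3
  rw [nsmul_eq_mul] at hc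
  rw [h1, add_mul, mul_right_comm, hc, zero_mul, add_zero]

end rel

section main

variable {K : Type u} [Field K] {θ : K →*₀ ℂ} {Q : ℤ} {M : ℕ} {r : ℕ}
variable [Finite K] (hM : Nat.card Kˣ = M) (hQ : IsUnit (Q : ZMod M)) (hr : r.Coprime M) [NeZero M]

/-- **the relabelled evaluation** -/
theorem evR_rel {x : RS M} (hx : x ∈ GenR Q M) (lam : Ty (Orb K Q)) :
    H615.GU.evR θ Q M (rel Q M r x) lam = H615.GU.evR θ Q M x (Finsupp.equivMapDomain (sg hM hQ hr) lam) := by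
  suffices h : H615.GU.evR θ Q M (rel Q M r x) = Sg hM hQ hr (H615.GU.evR θ Q M x) by rw [h, Sg_apply]
  have hmul := fun (v : Var M) (x : RS M) => H531.GU.evR_X_mul θ Q M H521.GU.i2s v x
  rw [GenR, ← Subalgebra.mem_toSubmodule, Algebra.adjoin_eq_span] at hx
  induction hx using Submodule.span_induction with
  | zero => simp
  | add x y _ _ hx hy => rw [map_add, map_add, map_add, map_add, hx, hy]
  | smul c x _ hx => rw [map_smul, map_smul, map_smul, map_smul, hx]
  | mem x hx =>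
    induction hx using Submonoid.closure_induction_left with
    | one =>
      rw [map_one, evR_one]
      exact (Sg_vac hM hQ hr).symm
    | mul_left y hy x _ ih =>
      obtain ⟨⟨k, c⟩, rfl⟩ := hy
      rw [map_mul]
      show H615.GU.evR θ Q M (rel Q M r (rv Q M k c) * rel Q M r x) = Sg hM hQ hr (H615.GU.evR θ Q M (rv Q M k c * x))
      rw [rel_rv hQ]
      by_cases h : 0 < k ∧ TorZ Q M k c
      · have hrc := torZ_nat (r := r) h.2
        have h1 : rv Q M k c = X (k, canon Q M c) := by rw [rv, if_pos h]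
        have h2 : rv Q M k ((r : ZMod M) * c) = X (k, canon Q M ((r : ZMod M) * c)) := by rw [rv, if_pos ⟨h.1, hrc⟩]
        rw [if_pos h, h2, h1, hmul, hmul, Pop_canon hM hQ hrc, Pop_canon hM hQ h.2, ih, Pop_Sg hM hQ hr h.2]
      · have h1 : rv Q M k c = 0 := by rw [rv, if_neg h]
        rw [if_neg h, h1, zero_mul, zero_mul, map_zero, map_zero]

end main

section frob

theorem mcol_frob {F : Type u} [Field F] {K : Type v} [Field K] [Algebra F K] {n : ℕ} (α : F →+* F) (φ : K →+* K)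
    (h : ∀ x : F, φ (algebraMap F K x) = algebraMap F K (α x)) (A : Matrix (Fin n) (Fin n) F) (y : K) :
    mcol (A.map α) (φ y) = mcol A y := by
  unfold mcol
  have h1 : (A.map α).map (algebraMap F K) - Matrix.scalar (Fin n) (φ y) =
      (A.map (algebraMap F K) - Matrix.scalar (Fin n) y).map φ := by
    ext i j
    rw [Matrix.sub_apply, Matrix.map_apply, Matrix.map_apply, Matrix.map_apply, Matrix.sub_apply, Matrix.map_apply,
      map_sub, h]
    congr 1
    rw [Matrix.scalar_apply, Matrix.scalar_apply]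
    by_cases hij : i = j
    · subst hij
      rw [Matrix.diagonal_apply_eq, Matrix.diagonal_apply_eq]
    · rw [Matrix.diagonal_apply_ne _ hij, Matrix.diagonal_apply_ne _ hij, map_zero]
  rw [h1, colOf_map]

variable {K : Type u} [Field K] {θ : K →*₀ ℂ} {Q : ℤ} {M : ℕ} {r : ℕ}
variable [Finite K] (hM : Nat.card Kˣ = M) (hQ : IsUnit (Q : ZMod M)) (hr : r.Coprime M)

/-- the type of the image under a field automorphism -/
theorem typ_fld {G : Type v} [Group G] {n : ℕ} {F : Type u} [Field F] [Algebra F K] (T : TypeData (dOrb K Q) Q G n)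
    (rho : G → Matrix (Fin n) (Fin n) F)
    (hT : ∀ g (x : Kˣ), T.typ g (Quotient.mk (orbSetoid K Q) x) = mcol (rho g) (x : K)) (α : F →+* F) (φ : K →+* K)
    (h : ∀ x : F, φ (algebraMap F K x) = algebraMap F K (α x)) (hφ : ∀ x : K, φ x = x ^ r) {g g' : G}
    (hg : rho g' = (rho g).map α) : T.typ g' = Finsupp.equivMapDomain (sg hM hQ hr) (T.typ g) := by
  ext1 o
  induction o using Quotient.inductionOn with
  | _ y =>
    obtain ⟨x, rfl⟩ := pow_surj hM hr y
    have h1 : (sg hM hQ hr).symm (Quotient.mk (orbSetoid K Q) (x ^ r)) = Quotient.mk (orbSetoid K Q) x := by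
      rw [Equiv.symm_apply_eq, sg_mk]
    show T.typ g' (Quotient.mk (orbSetoid K Q) (x ^ r)) = _
    rw [Finsupp.equivMapDomain_apply]
    refine Eq.trans ?_ (congrArg (T.typ g) h1).symm
    rw [hT, hT, hg, Units.val_pow_eq_pow_val, ← hφ, mcol_frob α φ h]

include hM hQ hr in
/-- **the values at the image under a field automorphism** -/
theorem omT_fld [NeZero M] {G : Type v} [Group G] {n : ℕ} {F : Type u} [Field F] [Algebra F K]
    (T : TypeData (dOrb K Q) Q G n) (rho : G → Matrix (Fin n) (Fin n) F)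
    (hT : ∀ g (x : Kˣ), T.typ g (Quotient.mk (orbSetoid K Q) x) = mcol (rho g) (x : K)) (α : F →+* F) (φ : K →+* K)
    (h : ∀ x : F, φ (algebraMap F K x) = algebraMap F K (α x)) (hφ : ∀ x : K, φ x = x ^ r) {g g' : G}
    (hg : rho g' = (rho g).map α) {x : RS M} (hx : x ∈ GenR Q M) :
    omT θ M T x g' = omT θ M T (rel Q M r x) g := by
  rw [omT_apply, omT_apply, evR_rel hM hQ hr hx, typ_fld hM hQ hr T rho hT α φ h hφ hg]

end frob

section fix

open Cfsg.Agent.H614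

variable {Q : ℤ} {M : ℕ} [NeZero M] {m : ℕ}

/-- the algebra of the labels of order dividing `p` -/
noncomputable def OrdR (Q : ℤ) (M p : ℕ) : Subalgebra ℂ (RS M) :=
  Algebra.adjoin ℂ {y : RS M | ∃ (k : ℕ) (c : ZMod M), p • c = 0 ∧ y = rv Q M k c}

omit [NeZero M] in
theorem rv_mem_ordR {p : ℕ} (k : ℕ) {c : ZMod M} (hc : p • c = 0) : rv Q M k c ∈ OrdR Q M p :=
  Algebra.subset_adjoin ⟨k, c, hc, rfl⟩

omit [NeZero M] in
theorem ordR_le {p : ℕ} : OrdR Q M p ≤ GenR Q M := by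
  unfold OrdR GenR
  refine Algebra.adjoin_mono ?_
  rintro _ ⟨k, c, -, rfl⟩
  exact ⟨(k, c), rfl⟩

/-- labels of order dividing `p` -/
theorem schP_mem_ordR {n p : ℕ} (t : LabZ Q M m n) (ht : ∀ c : ZMod M, p • c ≠ 0 → H577.GLB.Std.bsz (t.t c) = 0) :
    SchP Q M t.t ∈ OrdR Q M p := by
  rw [RSt.SchP_eq]
  unfold RSt.prodS
  refine Subalgebra.prod_mem _ fun c _ => ?_
  by_cases hc : p • c = 0
  · unfold SS ZV
    refine Subalgebra.sum_mem _ fun ν _ => Subalgebra.smul_mem _ (Subalgebra.smul_mem _ ?_ _) _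
    refine Subalgebra.multiset_prod_mem _ fun x hx => ?_
    obtain ⟨j, _, rfl⟩ := Multiset.mem_map.1 hx
    exact rv_mem_ordR _ hc
  · have h0 := ht c hc
    show SS _ (H577.GLB.Std.bsz (t.t c)) _ ∈ _
    rw [h0, RSt.eq_vac (t.mono c) h0, RSt.SS_vac]
    exact Subalgebra.one_mem _

/-- an exponent which is fixed -/
theorem rel_ordR (hQ : IsUnit (Q : ZMod M)) {p j r : ℕ} (h : (p : ℤ) ∣ r - Q ^ j) {x : RS M} (hx : x ∈ OrdR Q M p) :
    rel Q M r x = x := by
  refine rel_fix hQ (Algebra.adjoin_mono ?_ hx)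
  rintro _ ⟨k, c, hc, rfl⟩
  exact ⟨k, c, same_of_modEq hc h, rfl⟩

end fix

section fin

/-- an automorphism of a finite field of characteristic `p` is a power of the Frobenius -/
theorem aut_pow {F : Type*} [Field F] {p : ℕ} [Fact p.Prime] [CharP F p] [Finite F] (τ : F ≃+* F) :
    ∃ l : ℕ, ∀ x : F, τ x = x ^ p ^ l := by
  let _ : Algebra (ZMod p) F := ZMod.algebra F p
  have hcomm : (τ : F →+* F).comp (algebraMap (ZMod p) F) = algebraMap (ZMod p) F := Subsingleton.elim _ _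
  let τ' : F →ₐ[ZMod p] F := { (τ : F →+* F) with commutes' := fun r => RingHom.congr_fun hcomm r }
  have : Fintype F := Fintype.ofFinite F
  obtain ⟨l, hl⟩ := (FiniteField.bijective_frobeniusAlgHom_pow (ZMod p) F).2 τ'
  refine ⟨l, fun x => ?_⟩
  have h1 : ∀ (n : ℕ) (y : F), ((FiniteField.frobeniusAlgHom (ZMod p) F) ^ n) y = y ^ p ^ n := by
    intro n y
    induction n generalizing y with
    | zero => simp
    | succ n ih =>
      rw [pow_succ', AlgHom.mul_apply, ih, pow_succ]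
      show (y ^ p ^ n) ^ Fintype.card (ZMod p) = _
      rw [ZMod.card, ← pow_mul]
  have h2 := DFunLike.congr_fun hl x
  rw [← h1]
  exact h2.symm

variable {F : Type u} [Field F] [Finite F] {K : Type u} [Field K] [Algebra F K]

/-- a field automorphism of `p`-power order is `x ↦ x ^ r` with `r` a power of `|F|` modulo `p` -/
theorem exists_exp {p k : ℕ} (hp : p.Prime) (α : F ≃+* F) (hk : α ^ (p ^ k) = 1) :
    ∃ (ℓ l m : ℕ), ℓ.Prime ∧ CharP F ℓ ∧ (∀ x : F, α x = x ^ (ℓ ^ l)) ∧ (p : ℤ) ∣ ((ℓ ^ l : ℕ) : ℤ) - ((Nat.card F : ℕ) : ℤ) ^ m := by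
  have := Fintype.ofFinite F
  obtain ⟨ℓ, hℓ⟩ := CharP.exists F
  have hℓp : ℓ.Prime := CharP.char_is_prime F ℓ
  have : Fact ℓ.Prime := ⟨hℓp⟩
  have : Fact p.Prime := ⟨hp⟩
  obtain ⟨l, hl⟩ := aut_pow (p := ℓ) α
  obtain ⟨f, -, hf⟩ := FiniteField.card F ℓ
  have hpow : ∀ (n : ℕ) (x : F), (α ^ n) x = x ^ ((ℓ ^ l) ^ n) := by
    intro n
    induction n with
    | zero => intro x; simp
    | succ n ih =>
      intro x
      rw [pow_succ', RingAut.mul_apply, ih, hl, ← pow_mul, ← pow_succ]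
  have h1 : ∀ x : F, x ^ (ℓ ^ (l * p ^ k)) = x := by
    intro x
    have := hpow (p ^ k) x
    rw [hk, RingAut.one_apply, ← pow_mul] at this
    exact this.symm
  obtain ⟨g, hg⟩ := IsCyclic.exists_ofOrder_eq_natCard (α := Fˣ)
  rw [Nat.card_units, Nat.card_eq_fintype_card, hf] at hg
  have h2 : ℓ ^ (f : ℕ) - 1 ∣ ℓ ^ (l * p ^ k) - 1 := by
    rw [← hg]
    apply orderOf_dvd_of_pow_eq_one
    have h3 : g ^ (ℓ ^ (l * p ^ k)) = g := Units.ext (by rw [Units.val_pow_eq_pow_val]; exact h1 _)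
    have h4 : 1 ≤ ℓ ^ (l * p ^ k) := Nat.one_le_pow _ _ hℓp.pos
    have h5 : g ^ (ℓ ^ (l * p ^ k) - 1) * g = g := by
      rw [← pow_succ, Nat.sub_add_cancel h4]; exact h3
    exact mul_eq_right.1 h5
  have h6 : (f : ℕ) ∣ l * p ^ k := by
    have h7 := Nat.pow_sub_one_gcd_pow_sub_one ℓ (f : ℕ) (l * p ^ k)
    rw [Nat.gcd_eq_left h2] at h7
    have h8 : ℓ ^ (f : ℕ) = ℓ ^ (Nat.gcd f (l * p ^ k)) := by
      have h9 : 1 ≤ ℓ ^ (f : ℕ) := Nat.one_le_pow _ _ hℓp.pos
      have h10 : 1 ≤ ℓ ^ (Nat.gcd f (l * p ^ k)) := Nat.one_le_pow _ _ hℓp.pos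
      omega
    have h9 := Nat.pow_right_injective hℓp.two_le h8
    rw [h9]
    exact Nat.gcd_dvd_right _ _
  obtain ⟨m, hm⟩ := h6
  refine ⟨ℓ, l, m, hℓp, hℓ, hl, ?_⟩
  rw [← ZMod.intCast_zmod_eq_zero_iff_dvd]
  have h7 : ((ℓ ^ l : ℕ) : ZMod p) = ((Nat.card F : ℕ) : ZMod p) ^ m := by
    have h8 : (((ℓ ^ l : ℕ) : ZMod p)) ^ p ^ k = ((ℓ ^ l : ℕ) : ZMod p) := ZMod.pow_card_pow _
    rw [← h8, ← Nat.cast_pow, ← Nat.cast_pow, ← pow_mul, hm, Nat.card_eq_fintype_card, hf, ← pow_mul]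
  rw [Int.cast_sub, Int.cast_natCast, h7, Int.cast_pow, Int.cast_natCast, sub_self]

/-- **characters with labels of order `p` are fixed by field automorphisms of `p`-power order** -/
theorem omT_fix [Finite K] {θ : K →*₀ ℂ} {Q : ℤ} {M : ℕ} [NeZero M] (hM : Nat.card Kˣ = M) (hQ : IsUnit (Q : ZMod M))
    {G : Type v} [Group G] {n : ℕ} (T : TypeData (dOrb K Q) Q G n) (rho : G → Matrix (Fin n) (Fin n) F)
    (hT : ∀ g (x : Kˣ), T.typ g (Quotient.mk (orbSetoid K Q) x) = mcol (rho g) (x : K)) {p k b : ℕ} (hp : p.Prime)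
    (hb : ((Nat.card F : ℕ) : ℤ) = Q ^ b) (α : F ≃+* F) (hk : α ^ (p ^ k) = 1) {g g' : G}
    (hg : rho g' = (rho g).map α) {x : RS M} (hx : x ∈ OrdR Q M p) : omT θ M T x g' = omT θ M T x g := by
  have := Fintype.ofFinite F
  obtain ⟨ℓ, l, m, hℓp, hℓ, hl, hd⟩ := exists_exp hp α hk
  have : Fact ℓ.Prime := ⟨hℓp⟩
  have hℓK : CharP K ℓ := charP_of_injective_algebraMap (algebraMap F K).injective ℓ
  have hr : (ℓ ^ l).Coprime M := by
    apply Nat.Coprime.pow_left
    rw [Nat.Prime.coprime_iff_not_dvd hℓp, ← hM, Nat.card_units]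
    intro h
    have := Fintype.ofFinite K
    obtain ⟨c, -, hc⟩ := FiniteField.card K ℓ
    have h1 : ℓ ∣ Nat.card K := by rw [Nat.card_eq_fintype_card, hc]; exact dvd_pow_self _ c.pos.ne'
    have h2 : 1 ≤ Nat.card K := Nat.card_pos
    have h3 := (Nat.dvd_sub h1 h)
    rw [Nat.sub_sub_self h2] at h3
    exact hℓp.one_lt.ne' (Nat.dvd_one.1 h3)
  have h1 := omT_fld (θ := θ) hM hQ hr T rho hT (α : F →+* F) (iterateFrobenius K ℓ l)
    (fun x => by
      rw [iterateFrobenius_def, ← map_pow]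
      congr 1
      exact (hl x).symm)
    (fun x => by rw [iterateFrobenius_def]) hg (ordR_le hx)
  rw [h1, rel_ordR hQ (j := b * m) ?_ hx]
  rw [pow_mul, ← hb]
  exact hd

/-- **(F)** for towers -/
theorem tow_fld [Finite K] {θ : K →*₀ ℂ} {Q : ℤ} {M N p₀ : ℕ} [NeZero M] (hM : Nat.card Kˣ = M) (hQ : IsUnit (Q : ZMod M))
    {G : ℕ → Type u} [∀ n, Group (G n)] [∀ n, Finite (G n)] (t : Tow θ Q M N p₀ G) {n : ℕ} (hn : n ≤ N)
    (rho : G n → Matrix (Fin n) (Fin n) F)
    (hT : ∀ g (x : Kˣ), (t.T n hn).typ g (Quotient.mk (orbSetoid K Q) x) = mcol (rho g) (x : K)) {p k b : ℕ}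
    (hp : p.Prime) (hb : ((Nat.card F : ℕ) : ℤ) = Q ^ b) (α : F ≃+* F) (hk : α ^ (p ^ k) = 1) {m : ℕ}
    {χ : IrrCharacter (G n)} {lab : LabZ Q M m n} (hlab : (t.R n hn).IsLb χ lab)
    (hord : ∀ c : ZMod M, p • c ≠ 0 → H577.GLB.Std.bsz (lab.t c) = 0) {g g' : G n} (hg : rho g' = (rho g).map α) :
    (χ : G n → ℂ) g' = (χ : G n → ℂ) g := by
  obtain ⟨s, hs⟩ := hlab
  have h1 := omT_fix (θ := θ) hM hQ (t.T n hn) rho hT hp hb α hk hg (schP_mem_ordR lab hord)
  have h2 : ∀ y, omT θ M (t.T n hn) (SchP Q M lab.t) y = ((s : ℤ) : ℂ) * (χ : G n → ℂ) y := fun y => congrFun hs y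
  rw [h2, h2] at h1
  refine mul_left_cancel₀ ?_ h1
  rcases Int.units_eq_one_or s with h | h <;> simp [h]

end fin

end Cfsg.Agent.H623.XZ
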